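import Cfsg.Agent.Spor.LyAa.L.D0

set_option autoImplicit false
set_option maxRecDepth 100000000
set_option Elab.async false

namespace Cfsg.Agent.Spor.LyAa.L

theorem uok6 : Net.okb 4 un6 = true := by decide +kernel

theorem rel3 : U.rel 4 [13, 9, 9, 5, 7, 5, 9, 7, 9, 7, 9, 3, 5, 5, 5] 0 4 = true := by decide +kernel

theorem uok7 : Net.okb 4 un7 = true := by decide +kernel

theorem rel4 : U.rel 4 [15, 5, 1, 7, 7, 7, 3, 7, 1, 5, 7, 7, 7, 7, 1, 3, 9, 3, 1, 7, 7, 3] 0 4 = true := by decide +kernel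

theorem gr5 : sub 0x7ff (U.growI W1 [1, 2, 2, 2, 4, 0, 3, 4, 4, 3] (Nat.shiftLeft 1 0)) = true := by decide +kernel

theorem cl7 : band (U.closedW W1 0x7ff) (sub (Nat.shiftLeft 1 0) 0x7ff) = true := by decide +kernel

theorem sz8 : sizeOk 4 0x7ff 11 = true := by decide +kernel

theorem fx11 : U.closedW W10 (Nat.shiftLeft 1 0) = true := by decide +kernel

theorem uok8 : Net.okb 4 un8 = true := by decide +kernel

theorem rel12 : U.rel 4 [17, 15, 15, 13, 15, 15, 15, 15, 13, 13, 13, 15, 13, 15, 15, 13, 15, 15, 15, 13, 15] 0 4 = true := by decide +kernel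

theorem uok9 : Net.okb 4 un9 = true := by decide +kernel

theorem rel13 : U.rel 4 [19, 15, 15, 15, 15, 15, 15, 13, 13, 13, 13, 15, 13, 13, 13, 15, 15, 13, 15, 15, 15, 13, 15] 0 4 = true := by decide +kernel

theorem gr14 : sub 0x7fe (U.growI W10 [1, 0, 1, 1, 0, 1, 1, 0] (Nat.shiftLeft 1 1)) = true := by decide +kernel

theorem cl16 : band (U.closedW W10 0x7fe) (sub (Nat.shiftLeft 1 1) 0x7fe) = true := by decide +kernel

theorem sz17 : sizeOk 4 0x7fe 10 = true := by decide +kernel

theorem fx20 : U.closedW W19 (Nat.shiftLeft 1 1) = true := by decide +kernel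

theorem uok10 : Net.okb 4 un10 = true := by decide +kernel

theorem rel21 : U.rel 4 [21, 17, 19, 19, 17, 17, 17, 19, 17, 19, 17] 0 4 = true := by decide +kernel

theorem uok11 : Net.okb 4 un11 = true := by decide +kernel

theorem rel22 : U.rel 4 [23, 17, 17, 17, 19, 17, 19, 17, 17, 19, 17, 17, 19, 17, 17, 17, 17, 17, 17, 19, 19, 17, 19, 17] 0 4 = true := by decide +kernel

theorem gr23 : sub 0x7fc (U.growI W19 [0, 1, 1, 0, 0, 1] (Nat.shiftLeft 1 2)) = true := by decide +kernel

theorem cl25 : band (U.closedW W19 0x7fc) (sub (Nat.shiftLeft 1 2) 0x7fc) = true := by decide +kernel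

theorem sz26 : sizeOk 4 0x7fc 9 = true := by decide +kernel

theorem fx29 : U.closedW W28 (Nat.shiftLeft 1 2) = true := by decide +kernel

theorem uok12 : Net.okb 4 un12 = true := by decide +kernel

theorem rel30 : U.rel 4 [25, 21, 23, 23, 21, 21, 23, 23, 23, 23, 23, 23, 21, 21, 23, 21] 0 4 = true := by decide +kernel

theorem uok13 : Net.okb 4 un13 = true := by decide +kernel

theorem rel31 : U.rel 4 [27, 23, 21, 21, 23, 23, 23, 23, 21, 23, 23, 21, 23, 21, 23, 23, 23, 23, 23, 23] 0 4 = true := by decide +kernel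

theorem gr32 : sub 0x7f8 (U.growI W28 [0, 1, 1, 0, 0, 1] (Nat.shiftLeft 1 3)) = true := by decide +kernel

theorem cl34 : band (U.closedW W28 0x7f8) (sub (Nat.shiftLeft 1 3) 0x7f8) = true := by decide +kernel

theorem sz35 : sizeOk 4 0x7f8 8 = true := by decide +kernel

theorem fx38 : U.closedW W37 (Nat.shiftLeft 1 3) = true := by decide +kernel

theorem uok14 : Net.okb 4 un14 = true := by decide +kernel

theorem rel39 : U.rel 4 [29, 27, 25, 27, 27, 25, 27, 27, 27, 27, 27, 25] 0 4 = true := by decide +kernel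

theorem uok15 : Net.okb 4 un15 = true := by decide +kernel

theorem rel40 : U.rel 4 [31, 27, 27, 25, 25, 27, 27, 27, 27, 27, 25, 27, 25, 25, 25, 27, 25, 27, 27, 25, 25, 25] 0 4 = true := by decide +kernel

theorem gr41 : sub 0x7f0 (U.growI W37 [0, 0, 0, 1, 1, 0] (Nat.shiftLeft 1 4)) = true := by decide +kernel

theorem cl43 : band (U.closedW W37 0x7f0) (sub (Nat.shiftLeft 1 4) 0x7f0) = true := by decide +kernel

theorem sz44 : sizeOk 4 0x7f0 7 = true := by decide +kernel

theorem fx47 : U.closedW W46 (Nat.shiftLeft 1 4) = true := by decide +kernel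

theorem uok16 : Net.okb 4 un16 = true := by decide +kernel

theorem rel48 : U.rel 4 [33, 29, 29, 31, 29, 29, 29, 31, 29, 31, 29, 29, 29, 31, 31, 29] 0 4 = true := by decide +kernel

theorem uok17 : Net.okb 4 un17 = true := by decide +kernel

theorem rel49 : U.rel 4 [35, 29, 29, 31, 31, 31, 29, 31, 29, 31, 29] 0 4 = true := by decide +kernel

theorem gr50 : sub 0x7e0 (U.growI W46 [0, 1, 1, 0, 1] (Nat.shiftLeft 1 5)) = true := by decide +kernel

theorem cl52 : band (U.closedW W46 0x7e0) (sub (Nat.shiftLeft 1 5) 0x7e0) = true := by decide +kernel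

theorem sz53 : sizeOk 4 0x7e0 6 = true := by decide +kernel

theorem fx56 : U.closedW W55 (Nat.shiftLeft 1 5) = true := by decide +kernel

theorem uok18 : Net.okb 4 un18 = true := by decide +kernel

theorem rel57 : U.rel 4 [37, 33, 35, 35, 35, 33, 33, 35, 33, 33, 35, 35] 0 4 = true := by decide +kernel

theorem uok19 : Net.okb 4 un19 = true := by decide +kernel

theorem rel58 : U.rel 4 [39, 35, 33, 33, 35, 35, 33, 33] 0 4 = true := by decide +kernel

theorem gr59 : sub 0x7c0 (U.growI W55 [1, 1, 0, 0] (Nat.shiftLeft 1 6)) = true := by decide +kernel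

theorem cl61 : band (U.closedW W55 0x7c0) (sub (Nat.shiftLeft 1 6) 0x7c0) = true := by decide +kernel

theorem sz62 : sizeOk 4 0x7c0 5 = true := by decide +kernel

theorem fx65 : U.closedW W64 (Nat.shiftLeft 1 6) = true := by decide +kernel

theorem gr66 : sub 0x780 (U.growI W64 [1, 0, 0] (Nat.shiftLeft 1 8)) = true := by decide +kernel

theorem cl68 : band (U.closedW W64 0x780) (sub (Nat.shiftLeft 1 8) 0x780) = true := by decide +kernel

theorem sz69 : sizeOk 4 0x780 4 = true := by decide +kernel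

theorem fx72 : U.closedW W71 (Nat.shiftLeft 1 8) = true := by decide +kernel

theorem gr73 : sub 0x680 (U.growI W71 [0, 0] (Nat.shiftLeft 1 7)) = true := by decide +kernel

theorem cl75 : band (U.closedW W71 0x680) (sub (Nat.shiftLeft 1 7) 0x680) = true := by decide +kernel

theorem sz76 : sizeOk 4 0x680 3 = true := by decide +kernel

end Cfsg.Agent.Spor.LyAa.L
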