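import Cfsg.Agent.Spor.Prim
import Cfsg.Agent.Spor.LyAa.Main
import Cfsg.Agent.Spor.LyAa.L.C0
import Cfsg.Agent.Spor.TT2

set_option autoImplicit false
set_option maxRecDepth 100000000
set_option Elab.async false

namespace Cfsg.Agent.Spor.LyAa.L

theorem hU : U.Ok 4 := U.ok_of 4 (show AllP (fun n => Net.okb 4 n = true) [n0, n1, n2, n3, n4, n5, un6, un7, un8, un9, un10, un11, un12, un13, un14, un15, un16, un17, un18, un19] from AllP.cons ok0 (AllP.cons ok1 (AllP.cons ok2 (AllP.cons ok3 (AllP.cons ok4 (AllP.cons ok5 (AllP.cons uok6 (AllP.cons uok7 (AllP.cons uok8 (AllP.cons uok9 (AllP.cons uok10 (AllP.cons uok11 (AllP.cons uok12 (AllP.cons uok13 (AllP.cons uok14 (AllP.cons uok15 (AllP.cons uok16 (AllP.cons uok17 (AllP.cons uok18 (AllP.cons uok19 (AllP.nil)))))))))))))))))))))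

theorem hfP : ∀ j < 5, U.fP [1, 3, 5, 7, 9] j = fP j := by
  intro j hj
  interval_cases j <;> rfl
theorem eG : gsub 5 fP = U.lsub W1 := (gsub_congr hfP).symm.trans (lsub_eq_gsub U [1, 3, 5, 7, 9])
theorem upz1 : ev (atm 5 fP) [0] = U.τ 1 := pz1
theorem upz3 : ev (atm 5 fP) [2] = U.τ 3 := pz2
theorem upz5 : ev (atm 5 fP) [4] = U.τ 5 := pz3
theorem upz7 : ev (atm 5 fP) [6] = U.τ 7 := pz4
theorem upz9 : ev (atm 5 fP) [8] = U.τ 9 := pz5
theorem upz11 : ev (atm 5 fP) [3, 4] = U.τ 11 := pz10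
theorem eH : wsub 5 fP BW = U.lsub W2 :=
  lsub_eq_of_all₂ (show List.Forall₂ _ [[0], [6], [8], [3, 4]] [[1], [7], [9], [11]] from List.Forall₂.cons (upz1.trans (one_mul _).symm) (List.Forall₂.cons (upz7.trans (one_mul _).symm) (List.Forall₂.cons (upz9.trans (one_mul _).symm) (List.Forall₂.cons (upz11.trans (one_mul _).symm) (List.Forall₂.nil)))))
theorem vpz1 : PZ U (atm 5 fP) EXU 1 := pz1
theorem vpz2 : PZ U (atm 5 fP) EXU 2 := PZ.of_inv hiv vpz1 (by decide +kernel)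
theorem vpz3 : PZ U (atm 5 fP) EXU 3 := pz2
theorem vpz4 : PZ U (atm 5 fP) EXU 4 := PZ.of_inv hiv vpz3 (by decide +kernel)
theorem vpz5 : PZ U (atm 5 fP) EXU 5 := pz3
theorem vpz6 : PZ U (atm 5 fP) EXU 6 := PZ.of_inv hiv vpz5 (by decide +kernel)
theorem vpz7 : PZ U (atm 5 fP) EXU 7 := pz4
theorem vpz8 : PZ U (atm 5 fP) EXU 8 := PZ.of_inv hiv vpz7 (by decide +kernel)
theorem vpz9 : PZ U (atm 5 fP) EXU 9 := pz5
theorem vpz10 : PZ U (atm 5 fP) EXU 10 := PZ.of_inv hiv vpz9 (by decide +kernel)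
theorem vpz11 : PZ U (atm 5 fP) EXU 11 := pz10
theorem vpz12 : PZ U (atm 5 fP) EXU 12 := PZ.of_inv hiv vpz11 (by decide +kernel)
theorem hPZU : AllP (PZ U (atm 5 fP) EXU) LU :=
  show AllP (PZ U (atm 5 fP) EXU) [1, 2, 3, 4, 5, 6, 7, 8, 9, 10, 11, 12] from AllP.cons vpz1 (AllP.cons vpz2 (AllP.cons vpz3 (AllP.cons vpz4 (AllP.cons vpz5 (AllP.cons vpz6 (AllP.cons vpz7 (AllP.cons vpz8 (AllP.cons vpz9 (AllP.cons vpz10 (AllP.cons vpz11 (AllP.cons vpz12 (AllP.nil))))))))))))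
theorem reach6 : Reach (U.lsub W1) 0 0x7ff := (Reach.grow hU (Reach.base _ 0) gr5)
theorem orb9 : (orbS (U.lsub W1) 0).ncard = 11 := reach6.ncard hU cl7 sz8
theorem orb9e : orbS (U.lsub W1) 0 = {c | Nat.testBit 0x7ff c = true} := reach6.orb hU cl7
theorem reach15 : Reach (U.lsub W10) 1 0x7fe := (Reach.grow hU (Reach.base _ 1) gr14)
theorem orb18 : (orbS (U.lsub W10) 1).ncard = 10 := reach15.ncard hU cl16 sz17
theorem orb18e : orbS (U.lsub W10) 1 = {c | Nat.testBit 0x7fe c = true} := reach15.orb hU cl16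
theorem reach24 : Reach (U.lsub W19) 2 0x7fc := (Reach.grow hU (Reach.base _ 2) gr23)
theorem orb27 : (orbS (U.lsub W19) 2).ncard = 9 := reach24.ncard hU cl25 sz26
theorem orb27e : orbS (U.lsub W19) 2 = {c | Nat.testBit 0x7fc c = true} := reach24.orb hU cl25
theorem reach33 : Reach (U.lsub W28) 3 0x7f8 := (Reach.grow hU (Reach.base _ 3) gr32)
theorem orb36 : (orbS (U.lsub W28) 3).ncard = 8 := reach33.ncard hU cl34 sz35
theorem orb36e : orbS (U.lsub W28) 3 = {c | Nat.testBit 0x7f8 c = true} := reach33.orb hU cl34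
theorem reach42 : Reach (U.lsub W37) 4 0x7f0 := (Reach.grow hU (Reach.base _ 4) gr41)
theorem orb45 : (orbS (U.lsub W37) 4).ncard = 7 := reach42.ncard hU cl43 sz44
theorem orb45e : orbS (U.lsub W37) 4 = {c | Nat.testBit 0x7f0 c = true} := reach42.orb hU cl43
theorem reach51 : Reach (U.lsub W46) 5 0x7e0 := (Reach.grow hU (Reach.base _ 5) gr50)
theorem orb54 : (orbS (U.lsub W46) 5).ncard = 6 := reach51.ncard hU cl52 sz53
theorem orb54e : orbS (U.lsub W46) 5 = {c | Nat.testBit 0x7e0 c = true} := reach51.orb hU cl52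
theorem reach60 : Reach (U.lsub W55) 6 0x7c0 := (Reach.grow hU (Reach.base _ 6) gr59)
theorem orb63 : (orbS (U.lsub W55) 6).ncard = 5 := reach60.ncard hU cl61 sz62
theorem orb63e : orbS (U.lsub W55) 6 = {c | Nat.testBit 0x7c0 c = true} := reach60.orb hU cl61
theorem reach67 : Reach (U.lsub W64) 8 0x780 := (Reach.grow hU (Reach.base _ 8) gr66)
theorem orb70 : (orbS (U.lsub W64) 8).ncard = 4 := reach67.ncard hU cl68 sz69
theorem orb70e : orbS (U.lsub W64) 8 = {c | Nat.testBit 0x780 c = true} := reach67.orb hU cl68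
theorem reach74 : Reach (U.lsub W71) 7 0x680 := (Reach.grow hU (Reach.base _ 7) gr73)
theorem orb77 : (orbS (U.lsub W71) 7).ncard = 3 := reach74.ncard hU cl75 sz76
theorem orb77e : orbS (U.lsub W71) 7 = {c | Nat.testBit 0x680 c = true} := reach74.orb hU cl75
theorem lb78 : 3 ∣ Nat.card (U.lsub W71) := dvd_card_orb orb77
theorem lb79 : 12 ∣ Nat.card (U.lsub W64) :=
  dvd_card_step (s := 4) (M := 3) (B := U.lsub W71) (U.lsub_sub (by decide)) (hU.fixes fx72) orb70 lb78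
theorem lb80 : 60 ∣ Nat.card (U.lsub W55) :=
  dvd_card_step (s := 5) (M := 12) (B := U.lsub W64) (Tab.lsub_le_all (AllP.cons (mem_of_rel (hU.one rel57) (U.mem_letters (by decide))) (AllP.cons (mem_of_rel (hU.one rel58) (U.mem_letters (by decide))) (AllP.nil)))) (hU.fixes fx65) orb63 lb79
theorem lb81 : 360 ∣ Nat.card (U.lsub W46) :=
  dvd_card_step (s := 6) (M := 60) (B := U.lsub W55) (Tab.lsub_le_all (AllP.cons (mem_of_rel (hU.one rel48) (U.mem_letters (by decide))) (AllP.cons (mem_of_rel (hU.one rel49) (U.mem_letters (by decide))) (AllP.nil)))) (hU.fixes fx56) orb54 lb80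
theorem lb82 : 2520 ∣ Nat.card (U.lsub W37) :=
  dvd_card_step (s := 7) (M := 360) (B := U.lsub W46) (Tab.lsub_le_all (AllP.cons (mem_of_rel (hU.one rel39) (U.mem_letters (by decide))) (AllP.cons (mem_of_rel (hU.one rel40) (U.mem_letters (by decide))) (AllP.nil)))) (hU.fixes fx47) orb45 lb81
theorem lb83 : 20160 ∣ Nat.card (U.lsub W28) :=
  dvd_card_step (s := 8) (M := 2520) (B := U.lsub W37) (Tab.lsub_le_all (AllP.cons (mem_of_rel (hU.one rel30) (U.mem_letters (by decide))) (AllP.cons (mem_of_rel (hU.one rel31) (U.mem_letters (by decide))) (AllP.nil)))) (hU.fixes fx38) orb36 lb82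
theorem lb84 : 181440 ∣ Nat.card (U.lsub W19) :=
  dvd_card_step (s := 9) (M := 20160) (B := U.lsub W28) (Tab.lsub_le_all (AllP.cons (mem_of_rel (hU.one rel21) (U.mem_letters (by decide))) (AllP.cons (mem_of_rel (hU.one rel22) (U.mem_letters (by decide))) (AllP.nil)))) (hU.fixes fx29) orb27 lb83
theorem lb85 : 1814400 ∣ Nat.card (U.lsub W10) :=
  dvd_card_step (s := 10) (M := 181440) (B := U.lsub W19) (Tab.lsub_le_all (AllP.cons (mem_of_rel (hU.one rel12) (U.mem_letters (by decide))) (AllP.cons (mem_of_rel (hU.one rel13) (U.mem_letters (by decide))) (AllP.nil)))) (hU.fixes fx20) orb18 lb84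
theorem lb : 19958400 ∣ Nat.card (U.lsub W1) :=
  dvd_card_step (s := 11) (M := 1814400) (B := U.lsub W10) (Tab.lsub_le_all (AllP.cons (mem_of_rel (hU.one rel3) (U.mem_letters (by decide))) (AllP.cons (mem_of_rel (hU.one rel4) (U.mem_letters (by decide))) (AllP.nil)))) (hU.fixes fx11) orb9 lb85

end Cfsg.Agent.Spor.LyAa.L
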