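import Cfsg.Agent.Spor.Chk2
import Cfsg.Agent.Spor.LyAa.D0

set_option autoImplicit false
set_option maxRecDepth 100000000
set_option Elab.async false
noncomputable section

namespace Cfsg.Agent.Spor.LyAa.L

def W1 : List (List Nat) := [[1], [3], [5], [7], [9]]

def W2 : List (List Nat) := [[1], [7], [9], [11]]

def EXU : List (List Nat) := [[], [0], [0], [2], [3], [4], [5], [6], [7], [8], [9], [3, 4], [5, 2]]
def LU : List Nat := [1, 2, 3, 4, 5, 6, 7, 8, 9, 10, 11, 12]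

def um6_0 : Nat := nat_lit 0x40
def um6_1 : Nat := nat_lit 0x403
def um6_2 : Nat := nat_lit 0x3
def um6_3 : Nat := nat_lit 0x105
def um6_4 : Nat := nat_lit 0x3
def um6_5 : Nat := nat_lit 0x40
def un6 : Net := Net.cons 8 um6_0 (Net.cons 4 um6_1 (Net.cons 2 um6_2 (Net.cons 1 um6_3 (Net.cons 4 um6_4 (Net.cons 8 um6_5 (Net.nil))))))

def um7_0 : Nat := nat_lit 0xa
def um7_1 : Nat := nat_lit 0x100
def um7_2 : Nat := nat_lit 0x104
def um7_3 : Nat := nat_lit 0x100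
def um7_4 : Nat := nat_lit 0x4
def um7_5 : Nat := nat_lit 0x4
def un7 : Net := Net.cons 4 um7_0 (Net.cons 2 um7_1 (Net.cons 1 um7_2 (Net.cons 2 um7_3 (Net.cons 4 um7_4 (Net.cons 8 um7_5 (Net.nil))))))

def W10 : List (List Nat) := [[13], [15]]

def um8_0 : Nat := nat_lit 0x14
def um8_1 : Nat := nat_lit 0xc
def um8_2 : Nat := nat_lit 0x100
def um8_3 : Nat := nat_lit 0x40
def um8_4 : Nat := nat_lit 0x20
def um8_5 : Nat := nat_lit 0x104
def um8_6 : Nat := nat_lit 0x10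
def un8 : Net := Net.cons 8 um8_0 (Net.cons 4 um8_1 (Net.cons 2 um8_2 (Net.cons 1 um8_3 (Net.cons 2 um8_4 (Net.cons 4 um8_5 (Net.cons 8 um8_6 (Net.nil)))))))

def um9_0 : Nat := nat_lit 0x12
def um9_1 : Nat := nat_lit 0x102
def um9_2 : Nat := nat_lit 0x110
def um9_3 : Nat := nat_lit 0x14
def um9_4 : Nat := nat_lit 0x10
def um9_5 : Nat := nat_lit 0x4
def um9_6 : Nat := nat_lit 0x12
def un9 : Net := Net.cons 8 um9_0 (Net.cons 4 um9_1 (Net.cons 2 um9_2 (Net.cons 1 um9_3 (Net.cons 2 um9_4 (Net.cons 4 um9_5 (Net.cons 8 um9_6 (Net.nil)))))))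

def W19 : List (List Nat) := [[17], [19]]

def um10_0 : Nat := nat_lit 0x7
def um10_1 : Nat := nat_lit 0x4
def um10_2 : Nat := nat_lit 0x20
def um10_3 : Nat := nat_lit 0x4
def um10_4 : Nat := nat_lit 0x1
def um10_5 : Nat := nat_lit 0xa
def um10_6 : Nat := nat_lit 0x7
def un10 : Net := Net.cons 8 um10_0 (Net.cons 4 um10_1 (Net.cons 2 um10_2 (Net.cons 1 um10_3 (Net.cons 2 um10_4 (Net.cons 4 um10_5 (Net.cons 8 um10_6 (Net.nil)))))))

def um11_0 : Nat := nat_lit 0x7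
def um11_1 : Nat := nat_lit 0x5
def um11_2 : Nat := nat_lit 0x3
def um11_3 : Nat := nat_lit 0x14
def um11_4 : Nat := nat_lit 0x10
def um11_5 : Nat := nat_lit 0x2
def um11_6 : Nat := nat_lit 0x7
def un11 : Net := Net.cons 8 um11_0 (Net.cons 4 um11_1 (Net.cons 2 um11_2 (Net.cons 1 um11_3 (Net.cons 2 um11_4 (Net.cons 4 um11_5 (Net.cons 8 um11_6 (Net.nil)))))))

def W28 : List (List Nat) := [[21], [23]]

def um12_0 : Nat := nat_lit 0x7
def um12_1 : Nat := nat_lit 0x5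
def um12_2 : Nat := nat_lit 0x41
def um12_3 : Nat := nat_lit 0x10
def um12_4 : Nat := nat_lit 0x2
def um12_5 : Nat := nat_lit 0x7
def un12 : Net := Net.cons 8 um12_0 (Net.cons 4 um12_1 (Net.cons 1 um12_2 (Net.cons 2 um12_3 (Net.cons 4 um12_4 (Net.cons 8 um12_5 (Net.nil))))))

def um13_0 : Nat := nat_lit 0x20
def um13_1 : Nat := nat_lit 0x100
def um13_2 : Nat := nat_lit 0x100
def um13_3 : Nat := nat_lit 0x100
def um13_4 : Nat := nat_lit 0x200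
def um13_5 : Nat := nat_lit 0x20
def un13 : Net := Net.cons 8 um13_0 (Net.cons 2 um13_1 (Net.cons 1 um13_2 (Net.cons 2 um13_3 (Net.cons 4 um13_4 (Net.cons 8 um13_5 (Net.nil))))))

def W37 : List (List Nat) := [[25], [27]]

def um14_0 : Nat := nat_lit 0x20
def um14_1 : Nat := nat_lit 0x100
def um14_2 : Nat := nat_lit 0x100
def um14_3 : Nat := nat_lit 0x100
def um14_4 : Nat := nat_lit 0x200
def um14_5 : Nat := nat_lit 0x20
def un14 : Net := Net.cons 8 um14_0 (Net.cons 2 um14_1 (Net.cons 1 um14_2 (Net.cons 2 um14_3 (Net.cons 4 um14_4 (Net.cons 8 um14_5 (Net.nil))))))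

def um15_0 : Nat := nat_lit 0x3
def um15_1 : Nat := nat_lit 0x3
def um15_2 : Nat := nat_lit 0x30
def um15_3 : Nat := nat_lit 0x10
def um15_4 : Nat := nat_lit 0x1
def um15_5 : Nat := nat_lit 0x3
def un15 : Net := Net.cons 8 um15_0 (Net.cons 4 um15_1 (Net.cons 2 um15_2 (Net.cons 1 um15_3 (Net.cons 4 um15_4 (Net.cons 8 um15_5 (Net.nil))))))

def W46 : List (List Nat) := [[29], [31]]

def um16_0 : Nat := nat_lit 0x80
def um16_1 : Nat := nat_lit 0x800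
def um16_2 : Nat := nat_lit 0x100
def um16_3 : Nat := nat_lit 0x200
def um16_4 : Nat := nat_lit 0x800
def um16_5 : Nat := nat_lit 0x80
def un16 : Net := Net.cons 8 um16_0 (Net.cons 4 um16_1 (Net.cons 1 um16_2 (Net.cons 2 um16_3 (Net.cons 4 um16_4 (Net.cons 8 um16_5 (Net.nil))))))

def um17_0 : Nat := nat_lit 0x40
def um17_1 : Nat := nat_lit 0x400
def um17_2 : Nat := nat_lit 0x100
def um17_3 : Nat := nat_lit 0x40
def un17 : Net := Net.cons 8 um17_0 (Net.cons 4 um17_1 (Net.cons 2 um17_2 (Net.cons 8 um17_3 (Net.nil))))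

def W55 : List (List Nat) := [[33], [35]]

def um18_0 : Nat := nat_lit 0x80
def um18_1 : Nat := nat_lit 0x800
def um18_2 : Nat := nat_lit 0x200
def um18_3 : Nat := nat_lit 0x400
def um18_4 : Nat := nat_lit 0x800
def um18_5 : Nat := nat_lit 0x80
def un18 : Net := Net.cons 8 um18_0 (Net.cons 4 um18_1 (Net.cons 2 um18_2 (Net.cons 1 um18_3 (Net.cons 4 um18_4 (Net.cons 8 um18_5 (Net.nil))))))

def um19_0 : Nat := nat_lit 0x1
def um19_1 : Nat := nat_lit 0x1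
def um19_2 : Nat := nat_lit 0x110
def um19_3 : Nat := nat_lit 0x140
def um19_4 : Nat := nat_lit 0x110
def um19_5 : Nat := nat_lit 0x1
def um19_6 : Nat := nat_lit 0x1
def un19 : Net := Net.cons 8 um19_0 (Net.cons 4 um19_1 (Net.cons 2 um19_2 (Net.cons 1 um19_3 (Net.cons 2 um19_4 (Net.cons 4 um19_5 (Net.cons 8 um19_6 (Net.nil)))))))

def W64 : List (List Nat) := [[37], [39]]

def W71 : List (List Nat) := [[37]]

def U : Tab := ⟨[n0, n1, n2, n3, n4, n5, un6, un7, un8, un9, un10, un11, un12, un13, un14, un15, un16, un17, un18, un19], [⟨0, false, 0, 0, []⟩, ⟨0, false, 0, 0, []⟩, ⟨0, true, 0, 0, []⟩, ⟨1, false, 0, 0, []⟩, ⟨1, true, 0, 0, []⟩, ⟨2, false, 0, 0, []⟩, ⟨2, true, 0, 0, []⟩, ⟨3, false, 0, 0, []⟩, ⟨3, true, 0, 0, []⟩, ⟨4, false, 0, 0, []⟩, ⟨4, true, 0, 0, []⟩, ⟨5, false, 0, 0, []⟩, ⟨5, true, 0, 0, []⟩, ⟨6, false, 0, 0, []⟩, ⟨6, true, 0, 0, []⟩, ⟨7, false, 0, 0, []⟩, ⟨7,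 true, 0, 0, []⟩, ⟨8, false, 0, 0, []⟩, ⟨8, true, 0, 0, []⟩, ⟨9, false, 0, 0, []⟩, ⟨9, true, 0, 0, []⟩, ⟨10, false, 0, 0, []⟩, ⟨10, true, 0, 0, []⟩, ⟨11, false, 0, 0, []⟩, ⟨11, true, 0, 0, []⟩, ⟨12, false, 0, 0, []⟩, ⟨12, true, 0, 0, []⟩, ⟨13, false, 0, 0, []⟩, ⟨13, true, 0, 0, []⟩, ⟨14, false, 0, 0, []⟩, ⟨14, true, 0, 0, []⟩, ⟨15, false, 0, 0, []⟩, ⟨15, true, 0, 0, []⟩, ⟨16, false, 0, 0, []⟩, ⟨16, true, 0, 0, []⟩, ⟨17, false, 0, 0, []⟩, ⟨17, true, 0, 0, []⟩, ⟨18, false, 0, 0, []⟩, ⟨18, true, 0, 0, []⟩, ⟨19, false, 0, 0, []⟩, ⟨19, true, 0, 0, []⟩]⟩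

end Cfsg.Agent.Spor.LyAa.L
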